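import Groth.Agent.Misc1.Unip.Conj.Coact
import Groth.Agent.Misc1.Unip.ClassFun
import Groth.Agent.GitQuot.Orbits
import Groth.Agent.Hopf.Luna.ClosedOrbit
import Mathlib.LinearAlgebra.Trace

/-!
# Closed conjugacy classes are semisimple ones
-/

set_option autoImplicit false
set_option linter.unusedSectionVars false

universe u

open TensorProduct WithConv Groth.ComodLib Polynomial

noncomputable section

namespace Groth.Misc1.Unip.Conj

attribute [local instance 100] convGrpC
attribute [local instance] HopfRep.Comod.regular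

variable {k : Type u} [Field k] [IsAlgClosed k] [CharZero k] {A : Type u} [CommRing A] [HopfAlgebra k A]
  [Algebra.FiniteType k A]

theorem toAdj_inj {z w : WithConv (A →ₐ[k] k)} (h : toAdj z = toAdj w) : z = w := WithConv.ofConv_injective h

/-- semisimplicity on all finite pieces is semisimplicity of the translation -/
theorem isSS_iff (g : WithConv (A →ₐ[k] k)) : IsSS g ↔ (pointAct k A A g).IsSemisimple := by
  refine ⟨fun h => ?_, fun h U hU _ => h.restrict fun x hx => (isSubcomod_iff _).1 hU g.ofConv.toLinearMap x hx⟩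
  set f := pointAct k A A g
  let I := {U : Submodule k A // Module.Finite k U ∧ HopfRep.IsSubcomod (k := k) (A := A) U}
  have hinv : ∀ i : I, i.1 ∈ Module.End.invtSubmodule f := fun i x hx =>
    (isSubcomod_iff _).1 i.2.2 g.ofConv.toLinearMap x hx
  refine isSemisimpleModule_of_isSemisimpleModule_submodule'
    (p := fun i : I => Module.AEval.mapSubmodule k A f ⟨i.1, hinv i⟩) (fun i => ?_) ?_
  · have hi : Module.End.IsSemisimple (LinearMap.restrict f (hinv i)) := h i.1 i.2.2 i.2.1
    exact (Module.AEval.restrict_equiv_mapSubmodule f i.1 (hinv i)).isSemisimpleModule_iff.1 hi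
  · refine eq_top_iff.2 fun x _ => ?_
    obtain ⟨U, h1, h2, h3⟩ := exists_finite_subcomod_span (k := k) (A := A) (V := A)
      (Set.finite_singleton ((Module.AEval'.of f).symm x))
    exact Submodule.mem_iSup_of_mem (⟨U, h1, h3⟩ : I) ((Module.AEval.mem_mapSubmodule_apply k A f).2 (h2 rfl))

/-- the orbit closure in terms of conjugates -/
theorem closure_iff (s z : WithConv (A →ₐ[k] k)) :
    RingHom.ker (GLin.orbitHom k A (R := Adj k A) (toAdj s)) ≤ RingHom.ker (toAdj z) ↔
      ∀ f : A, (∀ h : WithConv (A →ₐ[k] k), (h⁻¹ * s * h).ofConv f = 0) → z.ofConv f = 0 := by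
  rw [GitQuot.le_ker_iff]
  have key : ∀ (h : WithConv (A →ₐ[k] k)) (f : Adj k A),
      (toAdj s) (HopfRep.Comod.act k A (Adj k A) h.ofConv f) = (h⁻¹ * s * h).ofConv f := fun h f => by
    rw [← GitQuot.apply_actPt, actPt_toAdj]
    rfl
  refine ⟨fun H f hf => H f fun g => ?_, fun H f hf => H f fun h => ?_⟩
  · exact (key (toConv g) f).trans (hf _)
  · exact (key h f).symm.trans (hf _)

theorem aeval_restrict_apply {V : Type*} [AddCommGroup V] [Module k V] (f : Module.End k V) {U : Submodule k V}
    (hf : ∀ x ∈ U, f x ∈ U) (p : k[X]) (x : U) :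
    ((aeval (f.restrict hf) p x : U) : V) = aeval f p (x : V) := by
  induction p using Polynomial.induction_on' with
  | add p q hp hq => simp only [map_add, LinearMap.add_apply, Submodule.coe_add, hp, hq]
  | monomial n c =>
    simp only [aeval_monomial, Module.End.mul_apply, Module.algebraMap_end_apply, Submodule.coe_smul]
    congr 1
    induction n with
    | zero => simp
    | succ n ih => rw [pow_succ', pow_succ', Module.End.mul_apply, Module.End.mul_apply, ← ih]; rfl

variable {U : Submodule k A} (hU : HopfRep.IsSubcomod (k := k) (A := A) U)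

/-- the functions testing whether a polynomial kills a translation -/
def testFun (p : k[X]) (θ : A →ₗ[k] k) (v : A) : A :=
  ∑ n ∈ Finset.range (p.natDegree + 1), p.coeff n • (idPt ^ n : WithConv (A →ₐ[k] A)).ofConv (cf (A := A) θ v)

theorem apply_testFun (p : k[X]) (θ : A →ₗ[k] k) (v : A) (h : WithConv (A →ₐ[k] k)) :
    h.ofConv (testFun p θ v) = θ (aeval (pointAct k A A h) p v) := by
  rw [testFun, map_sum, aeval_eq_sum_range, LinearMap.sum_apply, map_sum]
  refine Finset.sum_congr rfl fun n _ => ?_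
  rw [map_smul, LinearMap.smul_apply, map_smul, ← pushPt_apply, map_pow, pushPt_idPt, ← map_pow]
  exact congrArg _ (apply_cf (A := A) (h ^ n).ofConv.toLinearMap θ v)

/-- degenerations of semisimple points -/
theorem isSS_of_le {s z : WithConv (A →ₐ[k] k)} (hs : IsSS s)
    (hle : RingHom.ker (GLin.orbitHom k A (R := Adj k A) (toAdj s)) ≤ RingHom.ker (toAdj z)) : IsSS z := by
  intro U hU hfin
  obtain ⟨p, hsq, h0⟩ : ∃ p : k[X], Squarefree p ∧ aeval (Jordan.T s hU) p = 0 :=
    ⟨minpoly k (Jordan.T s hU), (hs U hU hfin).minpoly_squarefree, minpoly.aeval k (Jordan.T s hU)⟩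
  refine Module.End.isSemisimple_of_squarefree_aeval_eq_zero hsq (LinearMap.ext fun v => ?_)
  refine Subtype.ext ?_
  rw [LinearMap.zero_apply, Submodule.coe_zero]
  refine (Module.forall_dual_apply_eq_zero_iff k _).1 fun θ => ?_
  have e1 : ∀ h : WithConv (A →ₐ[k] k), ((aeval (Jordan.T h hU) p v : U) : A) = aeval (pointAct k A A h) p (v : A) :=
    fun h => aeval_restrict_apply _ _ p v
  rw [e1 z, ← apply_testFun]
  refine (closure_iff s z).1 hle _ fun h => ?_
  rw [apply_testFun, ← e1]
  rw [show h⁻¹ * s * h = h⁻¹ * s * h⁻¹⁻¹ by rw [inv_inv]]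
  obtain ⟨e, he⟩ := exists_conjAlgEquiv hU h⁻¹ s
  rw [he, show e.conj (Jordan.T s hU) = e.conjAlgEquiv k (Jordan.T s hU) from rfl, aeval_algHom_apply,
    h0, map_zero, LinearMap.zero_apply, Submodule.coe_zero, map_zero]

theorem map_cfMat_eq [Module.Finite k U] (h : WithConv (A →ₐ[k] k)) :
    letI := ComodSub.Comod.restr (HopfRep.Comod.regular k A) U hU
    (cfMat (A := A) (Module.finBasis k U)).map h.ofConv =
      LinearMap.toMatrix (Module.finBasis k U) (Module.finBasis k U) (Jordan.T h hU) := by
  letI := ComodSub.Comod.restr (HopfRep.Comod.regular k A) U hU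
  refine Matrix.ext fun i j => ?_
  rw [Matrix.map_apply, LinearMap.toMatrix_apply, ← rhoU_lin]
  change h.ofConv.toLinearMap (cf (A := A) ((Module.finBasis k U).coord i) (Module.finBasis k U j)) = _
  rw [apply_cf]
  rfl

theorem charpoly_eq_of_le [Module.Finite k U] {s z : WithConv (A →ₐ[k] k)}
    (hle : RingHom.ker (GLin.orbitHom k A (R := Adj k A) (toAdj s)) ≤ RingHom.ker (toAdj z)) :
    (Jordan.T z hU).charpoly = (Jordan.T s hU).charpoly := by
  letI := ComodSub.Comod.restr (HopfRep.Comod.regular k A) U hU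
  refine Polynomial.ext fun i => ?_
  let d : A := (cfMat (A := A) (Module.finBasis k U)).charpoly.coeff i
  have hd : ∀ h : WithConv (A →ₐ[k] k), h.ofConv d = (Jordan.T h hU).charpoly.coeff i := fun h => by
    rw [← LinearMap.charpoly_toMatrix _ (Module.finBasis k U), ← map_cfMat_eq hU h,
      show (cfMat (A := A) (Module.finBasis k U)).map h.ofConv =
        (cfMat (A := A) (Module.finBasis k U)).map h.ofConv.toRingHom from rfl, Matrix.charpoly_map, Polynomial.coeff_map]
    rfl
  have := (closure_iff s z).1 hle (d - algebraMap k A ((Jordan.T s hU).charpoly.coeff i)) fun h => by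
    rw [map_sub, AlgHom.commutes, hd, show h⁻¹ * s * h = h⁻¹ * s * h⁻¹⁻¹ by rw [inv_inv], charpoly_conj_point]
    exact sub_self _
  rw [map_sub, AlgHom.commutes, hd] at this
  exact sub_eq_zero.1 this

/-- the class of a semisimple point is closed -/
theorem isClosedOrbit_of_isSS {g : WithConv (A →ₐ[k] k)} (hg : IsSS g) :
    GLin.IsClosedOrbit k A (R := Adj k A) (toAdj g) := by
  refine Luna.isClosedOrbit_of_minimal _ fun w' hw => ?_
  obtain ⟨w, rfl⟩ : ∃ w : WithConv (A →ₐ[k] k), toAdj w = w' := ⟨toConv w', rfl⟩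
  have hwss := isSS_of_le hg hw
  obtain ⟨f, hf, hopen⟩ := exists_open_conj hwss
  obtain ⟨h, hh⟩ : ∃ h : WithConv (A →ₐ[k] k), (h⁻¹ * g * h).ofConv f ≠ 0 := by
    by_contra hno
    push Not at hno
    exact hf ((closure_iff g w).1 hw f hno)
  have hz : IsSS (h⁻¹ * g * h) := by simpa using hg.conj h⁻¹
  obtain ⟨x, hx⟩ := hopen _ hh hz fun U hU _ => by
    rw [show h⁻¹ * g * h = h⁻¹ * g * h⁻¹⁻¹ by rw [inv_inv], charpoly_conj_point]
    exact (charpoly_eq_of_le hU hw).symm
  have e : w = (h * x)⁻¹ * g * (h * x) := by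
    rw [mul_inv_rev, show x⁻¹ * h⁻¹ * g * (h * x) = x⁻¹ * (h⁻¹ * g * h) * x by group, ← hx]
    group
  rw [e, ← actPt_toAdj]
  exact (Luna.ker_orbitHom_actPt _ _).le

/-- semisimple parts -/
theorem exists_ssPart_point (g : WithConv (A →ₐ[k] k)) : ∃ s : WithConv (A →ₐ[k] k), IsSS s ∧
    ∀ (V : Type u) [AddCommGroup V] [Module k V] [HopfRep.Comod k A V] [FiniteDimensional k V],
      IsNilpotent (pointAct k A V g - pointAct k A V s) := by
  obtain ⟨s, hs⟩ := Jordan.exists_semisimple_point g
  refine ⟨s, fun U hU hfin => ?_, fun V _ _ _ _ => (hs V).2.2⟩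
  letI cU := ComodSub.Comod.restr (HopfRep.Comod.regular k A) U hU
  have e : Jordan.T s hU = pointAct k A U s := LinearMap.ext fun x => Subtype.ext
    (isComodHom_op (ComodSub.isComodHom_subtype _ U hU) s.ofConv.toLinearMap x).symm
  rw [e]
  exact (hs U).1

/-- invariant functions only see the semisimple part -/
theorem fixed_eq_of_nilpotent (hred : HopfRep.IsLinearlyReductive k A) {g s : WithConv (A →ₐ[k] k)}
    (hn : ∀ (V : Type u) [AddCommGroup V] [Module k V] [HopfRep.Comod k A V] [FiniteDimensional k V],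
      IsNilpotent (pointAct k A V g - pointAct k A V s))
    {f : A} (hf : (f : Adj k A) ∈ HopfRep.fixedPts k A (Adj k A)) : g.ofConv f = s.ofConv f := by
  have hmem := ClassFun.mem_span_of_comm
    (fun U hU hfin => @hred U _ _ (ComodSub.Comod.restr (HopfRep.Comod.regular k A) U hU) hfin)
    (comm_comul_of_fixed hf)
  clear hf
  induction hmem using Submodule.span_induction with
  | mem a ha =>
    rw [← range_char_eq] at ha
    obtain ⟨⟨d, c⟩, rfl⟩ := ha
    letI := c
    let b := Pi.basisFun k (Fin d)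
    have e : (∑ i : Fin d, TensorProduct.lid k A (LinearMap.rTensor A (LinearMap.proj i)
        (HopfRep.Comod.coact (k := k) (A := A) (Pi.single i (1 : k) : Fin d → k)))) = (cfMat (A := A) b).trace := by
      refine Finset.sum_congr rfl fun i _ => ?_
      have h1 : b.coord i = LinearMap.proj i := LinearMap.ext fun x => by simp [b]
      simp [Matrix.diag, cfMat, cf_apply, lslice, h1, b]
    refine (congrArg g.ofConv e).trans (Eq.trans ?_ (congrArg s.ofConv e).symm)
    change g.ofConv.toLinearMap _ = s.ofConv.toLinearMap _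
    rw [ClassFun.apply_trace_cfMat, ClassFun.apply_trace_cfMat, ← sub_eq_zero, ← map_sub]
    exact (LinearMap.isNilpotent_trace_of_isNilpotent (hn (Fin d → k))).eq_zero
  | zero => rw [map_zero, map_zero]
  | add a b _ _ ha hb => rw [map_add, map_add, ha, hb]
  | smul c a _ ha => rw [map_smul, map_smul, ha]

/-- a closed class is semisimple -/
theorem isSS_of_isClosedOrbit (hred : HopfRep.IsLinearlyReductive k A) {g : WithConv (A →ₐ[k] k)}
    (hg : GLin.IsClosedOrbit k A (R := Adj k A) (toAdj g)) : IsSS g := by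
  obtain ⟨s, hs, hn⟩ := exists_ssPart_point g
  have hle := Luna.ker_orbitHom_le_of_closed hred hg (y' := toAdj s)
    fun f hf => (fixed_eq_of_nilpotent hred hn (f := f) hf).symm
  obtain ⟨h, hh⟩ := Luna.exists_actPt_eq (isClosedOrbit_of_isSS hs) (hle.trans (GitQuot.ker_orbitHom_le _))
  have e := actPt_toAdj (toConv h) s
  rw [show (toConv h).ofConv = h from rfl, hh] at e
  rw [toAdj_inj e]
  simpa using hs.conj (toConv h)⁻¹

/-- **closed classes are the semisimple ones** -/
theorem isClosedOrbit_iff_isSS (hred : HopfRep.IsLinearlyReductive k A) (g : WithConv (A →ₐ[k] k)) :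
    GLin.IsClosedOrbit k A (R := Adj k A) (toAdj g) ↔ IsSS g :=
  ⟨isSS_of_isClosedOrbit hred, isClosedOrbit_of_isSS⟩

end Groth.Misc1.Unip.Conj
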