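import Groth.Agent.Misc1.Unip.Conj.Open
import Groth.Prelude.Def_GLin

/-!
# The coaction by conjugation
-/

set_option autoImplicit false
set_option linter.unusedSectionVars false

universe u

open TensorProduct WithConv Groth.ComodLib

noncomputable section

namespace Groth.Misc1.Unip.Conj

attribute [local instance 100] convGrpC

variable {k : Type u} [Field k] {A : Type u} [CommRing A] [HopfAlgebra k A]

/-- the first projection as a point -/
def pL : WithConv (A →ₐ[k] A ⊗[k] A) := toConv Algebra.TensorProduct.includeLeft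

/-- the second projection as a point -/
def pR : WithConv (A →ₐ[k] A ⊗[k] A) := toConv Algebra.TensorProduct.includeRight

/-- conjugation as a point -/
def adPt : WithConv (A →ₐ[k] A ⊗[k] A) := pR⁻¹ * pL * pR

theorem pushPt_pL {C : Type u} [CommRing C] [Algebra k C] (f : A ⊗[k] A →ₐ[k] C) :
    pushPt f pL = toConv (f.comp Algebra.TensorProduct.includeLeft) := rfl

theorem pushPt_pR {C : Type u} [CommRing C] [Algebra k C] (f : A ⊗[k] A →ₐ[k] C) :
    pushPt f pR = toConv (f.comp Algebra.TensorProduct.includeRight) := rfl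

theorem pushPt_adPt {C : Type u} [CommRing C] [Algebra k C] (f : A ⊗[k] A →ₐ[k] C) :
    pushPt f adPt = (pushPt f pR)⁻¹ * pushPt f pL * pushPt f pR := by
  rw [adPt, map_mul, map_mul]
  exact congrArg (· * _) (congrArg (· * _) (map_inv (pushPt f) pR))

theorem comul_eq_mul (a : A) : (pL * pR : WithConv (A →ₐ[k] A ⊗[k] A)).ofConv a = Coalgebra.comul (R := k) a := by
  rw [conv_mul_apply']
  generalize Coalgebra.comul (R := k) a = z
  induction z using TensorProduct.induction_on with
  | zero => simp
  | tmul p q => simp [pL, pR, Algebra.TensorProduct.tmul_mul_tmul]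
  | add p q hp hq => simp only [map_add, hp, hq]

theorem comm_comul_eq_mul (a : A) :
    (pR * pL : WithConv (A →ₐ[k] A ⊗[k] A)).ofConv a = TensorProduct.comm k A A (Coalgebra.comul (R := k) a) := by
  rw [conv_mul_apply']
  generalize Coalgebra.comul (R := k) a = z
  induction z using TensorProduct.induction_on with
  | zero => simp
  | tmul p q => simp [pL, pR, Algebra.TensorProduct.tmul_mul_tmul]
  | add p q hp hq => simp only [map_add, hp, hq]

theorem conj_conj {G : Type*} [Group G] (a b c : G) : c⁻¹ * (b⁻¹ * a * b) * c = (b * c)⁻¹ * a * (b * c) := by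
  simp only [mul_inv_rev, mul_assoc]

theorem one_inv_mul_one {G : Type*} [Group G] (a : G) : (1 : G)⁻¹ * a * 1 = a := by
  rw [inv_one, one_mul, mul_one]

variable (k A) in
/-- the group acted on by conjugation -/
@[nolint unusedArguments]
def Adj (_k : Type u) (A : Type u) : Type u := A

instance : CommRing (Adj k A) := inferInstanceAs (CommRing A)
instance : Algebra k (Adj k A) := inferInstanceAs (Algebra k A)
instance [Algebra.FiniteType k A] : Algebra.FiniteType k (Adj k A) := inferInstanceAs (Algebra.FiniteType k A)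

/-- the coaction -/
def adHom : Adj k A →ₐ[k] Adj k A ⊗[k] A := (adPt (k := k) (A := A)).ofConv

theorem coassoc_adPt :
    pushPt ((Algebra.TensorProduct.assoc k k k A A A).toAlgHom.comp
        (Algebra.TensorProduct.map (adPt (k := k) (A := A)).ofConv (AlgHom.id k A))) (adPt (k := k) (A := A)) =
      pushPt (Algebra.TensorProduct.map (AlgHom.id k A) (Bialgebra.comulAlgHom k A)) adPt := by
  let jR : A ⊗[k] A →ₐ[k] A ⊗[k] (A ⊗[k] A) := Algebra.TensorProduct.includeRight
  let e1 : WithConv (A →ₐ[k] A ⊗[k] (A ⊗[k] A)) := toConv Algebra.TensorProduct.includeLeft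
  let e2 : WithConv (A →ₐ[k] A ⊗[k] (A ⊗[k] A)) := pushPt jR pL
  let e3 : WithConv (A →ₐ[k] A ⊗[k] (A ⊗[k] A)) := pushPt jR pR
  set f1 := (Algebra.TensorProduct.assoc k k k A A A).toAlgHom.comp
    (Algebra.TensorProduct.map (adPt (k := k) (A := A)).ofConv (AlgHom.id k A))
  set f2 := Algebra.TensorProduct.map (AlgHom.id k A) (Bialgebra.comulAlgHom k A)
  let m : A ⊗[k] A →ₐ[k] A ⊗[k] (A ⊗[k] A) :=
    (Algebra.TensorProduct.assoc k k k A A A).toAlgHom.comp Algebra.TensorProduct.includeLeft
  have hm1 : pushPt m pL = e1 := WithConv.ofConv_injective (AlgHom.ext fun x => by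
    simp [m, e1, pushPt_apply, pL, Algebra.TensorProduct.one_def])
  have hm2 : pushPt m pR = e2 := WithConv.ofConv_injective (AlgHom.ext fun x => by
    simp [m, e2, jR, pushPt_apply, pL, pR, Algebra.TensorProduct.one_def])
  have h1L : pushPt f1 pL = e2⁻¹ * e1 * e2 := by
    have e : pushPt f1 pL = pushPt m adPt := WithConv.ofConv_injective (AlgHom.ext fun x => by
      change f1 (x ⊗ₜ[k] (1 : A)) = m (adPt.ofConv x)
      simp [f1, m])
    rw [e, pushPt_adPt, hm1, hm2]
  have h1R : pushPt f1 pR = e3 := WithConv.ofConv_injective (AlgHom.ext fun x => by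
    change f1 ((1 : A) ⊗ₜ[k] x) = (1 : A) ⊗ₜ[k] ((1 : A) ⊗ₜ[k] x)
    simp [f1, Algebra.TensorProduct.one_def])
  have h2L : pushPt f2 pL = e1 := WithConv.ofConv_injective (AlgHom.ext fun x => by
    simp [f2, e1, pushPt_apply, pL])
  have h2R : pushPt f2 pR = e2 * e3 := by
    rw [show e2 * e3 = pushPt jR (pL * pR) from (map_mul (pushPt jR) pL pR).symm]
    refine WithConv.ofConv_injective (AlgHom.ext fun x => ?_)
    rw [pushPt_apply, pushPt_apply, comul_eq_mul]
    simp [f2, jR, pR]
  rw [pushPt_adPt, pushPt_adPt, h1L, h1R, h2L, h2R]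
  exact conj_conj e1 e2 e3

theorem coassoc_adLin :
    (TensorProduct.assoc k A A A).toLinearMap ∘ₗ
        LinearMap.rTensor A (adPt (k := k) (A := A)).ofConv.toLinearMap ∘ₗ (adPt (k := k) (A := A)).ofConv.toLinearMap =
      LinearMap.lTensor A (Coalgebra.comul (R := k) (A := A)) ∘ₗ (adPt (k := k) (A := A)).ofConv.toLinearMap := by
  refine LinearMap.ext fun a => ?_
  have h := DFunLike.congr_fun (congrArg WithConv.ofConv (coassoc_adPt (k := k) (A := A))) a
  refine Eq.trans ?_ (h.trans ?_)
  · simp only [LinearMap.comp_apply, AlgHom.toLinearMap_apply, pushPt_apply]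
    generalize (adPt (k := k) (A := A)).ofConv a = z
    induction z using TensorProduct.induction_on with
    | zero => simp
    | tmul x y => rfl
    | add x y hx hy => simp only [map_add, hx, hy]
  · simp only [LinearMap.comp_apply, AlgHom.toLinearMap_apply, pushPt_apply]
    generalize (adPt (k := k) (A := A)).ofConv a = z
    induction z using TensorProduct.induction_on with
    | zero => simp
    | tmul x y => rfl
    | add x y hx hy => simp only [map_add, hx, hy]

theorem counit_adLin :
    LinearMap.lTensor A (Coalgebra.counit (R := k) (A := A)) ∘ₗ (adPt (k := k) (A := A)).ofConv.toLinearMap =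
      (TensorProduct.mk k A k).flip 1 := by
  refine LinearMap.ext fun a => ?_
  let f3 : A ⊗[k] A →ₐ[k] A ⊗[k] k := Algebra.TensorProduct.map (AlgHom.id k A) (Bialgebra.counitAlgHom k A)
  let iA : WithConv (A →ₐ[k] A ⊗[k] k) := toConv Algebra.TensorProduct.includeLeft
  have hL : pushPt f3 pL = iA := WithConv.ofConv_injective (AlgHom.ext fun x => by
    simp [f3, iA, pushPt_apply, pL])
  have hR : pushPt f3 (pR (k := k) (A := A)) = 1 := WithConv.ofConv_injective (AlgHom.ext fun x => by
    rw [pushPt_apply]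
    change (1 : A) ⊗ₜ[k] Coalgebra.counit (R := k) x = (1 : WithConv (A →ₐ[k] A ⊗[k] k)).ofConv x
    simp [Algebra.TensorProduct.one_def, Algebra.algebraMap_eq_smul_one]
    rw [← TensorProduct.tmul_smul, smul_eq_mul, mul_one])
  have h : pushPt f3 adPt = iA := by
    rw [pushPt_adPt, hL, hR]
    exact one_inv_mul_one iA
  refine Eq.trans ?_ (DFunLike.congr_fun (congrArg WithConv.ofConv h) a)
  simp only [LinearMap.comp_apply, pushPt_apply, AlgHom.toLinearMap_apply]
  generalize (adPt (k := k) (A := A)).ofConv a = z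
  induction z using TensorProduct.induction_on with
  | zero => simp
  | tmul x y => rfl
  | add x y hx hy => simp only [map_add, hx, hy]

instance instComodAdj : HopfRep.Comod k A (Adj k A) where
  coact := (adHom (k := k) (A := A)).toLinearMap
  coassoc := coassoc_adLin (k := k) (A := A)
  counit_comp := counit_adLin (k := k) (A := A)

instance : GLin.IsCoactAlg k A (Adj k A) where
  coact_one := map_one adHom
  coact_mul := map_mul adHom

/-- a point, seen as a point of the acted-on space -/
def toAdj (g : WithConv (A →ₐ[k] k)) : Adj k A →ₐ[k] k := g.ofConv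

theorem orbitHom_toAdj (g : WithConv (A →ₐ[k] k)) :
    (show A →ₐ[k] A from GLin.orbitHom k A (R := Adj k A) (toAdj g)) = (idPt⁻¹ * constPt A g * idPt).ofConv := by
  let f : A ⊗[k] A →ₐ[k] A :=
    (Algebra.TensorProduct.lid k A).toAlgHom.comp (Algebra.TensorProduct.map g.ofConv (AlgHom.id k A))
  have hL : pushPt f pL = constPt A g := WithConv.ofConv_injective (AlgHom.ext fun x => by
    rw [pushPt_apply]
    change (Algebra.TensorProduct.lid k A) (g.ofConv x ⊗ₜ[k] (1 : A)) = algebraMap k A (g.ofConv x)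
    rw [Algebra.TensorProduct.lid_tmul, Algebra.algebraMap_eq_smul_one])
  have hR : pushPt f (pR (k := k) (A := A)) = idPt := WithConv.ofConv_injective (AlgHom.ext fun x => by
    rw [pushPt_apply]
    change (Algebra.TensorProduct.lid k A) (g.ofConv 1 ⊗ₜ[k] x) = x
    rw [Algebra.TensorProduct.lid_tmul, map_one, one_smul])
  rw [← hL, ← hR, ← pushPt_adPt]
  rfl

theorem actPt_toAdj (h g : WithConv (A →ₐ[k] k)) :
    GLin.actPt k h.ofConv (toAdj g) = toAdj (h⁻¹ * g * h) := by
  refine (congrArg (fun F : A →ₐ[k] A => h.ofConv.comp F) (orbitHom_toAdj g)).trans ?_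
  change (pushPt h.ofConv (idPt⁻¹ * constPt A g * idPt)).ofConv = (h⁻¹ * g * h).ofConv
  rw [map_mul, map_mul, pushPt_constPt, pushPt_idPt,
    show pushPt h.ofConv (idPt (k := k) (A := A))⁻¹ = h⁻¹ from rfl]

/-- invariant functions are symmetric -/
theorem comm_comul_of_fixed {f : A} (hf : (f : Adj k A) ∈ HopfRep.fixedPts k A (Adj k A)) :
    TensorProduct.comm k A A (Coalgebra.comul (R := k) f) = Coalgebra.comul (R := k) f := by
  have hf' : (pR⁻¹ * pL * pR : WithConv (A →ₐ[k] A ⊗[k] A)).ofConv f = pL.ofConv f := hf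
  let Ψ : A ⊗[k] A →ₐ[k] A ⊗[k] A :=
    Algebra.TensorProduct.lift (pR * pL).ofConv pR.ofConv fun _ _ => Commute.all _ _
  have hL : pushPt Ψ pL = pR * pL := WithConv.ofConv_injective (AlgHom.ext fun x => by
    change Ψ (x ⊗ₜ (1 : A)) = _
    rw [Algebra.TensorProduct.lift_tmul, map_one, mul_one])
  have hR : pushPt Ψ (pR (k := k) (A := A)) = pR := WithConv.ofConv_injective (AlgHom.ext fun x => by
    change Ψ ((1 : A) ⊗ₜ x) = _
    rw [Algebra.TensorProduct.lift_tmul, map_one, one_mul])
  have h := congrArg Ψ hf'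
  rw [← pushPt_apply, ← pushPt_apply, show (pR⁻¹ * pL * pR : WithConv (A →ₐ[k] A ⊗[k] A)) = adPt from rfl,
    pushPt_adPt, hL, hR, inv_mul_cancel_left, comul_eq_mul, comm_comul_eq_mul] at h
  exact h.symm

end Groth.Misc1.Unip.Conj
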