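import Groth.Agent.Misc1.Unip.Conj.Tangent
import Groth.Agent.Hopf.SmoothHopf
import Groth.Agent.Hopf.GLnHom
import Groth.Prelude.Def_HopfRep

/-!
# Semisimple points with the same eigenvalues are conjugate near a given one
-/

set_option autoImplicit false
set_option linter.unusedSectionVars false

universe u

open TensorProduct WithConv Groth.ComodLib

noncomputable section

namespace Groth.Misc1.Unip.Conj

attribute [local instance 100] convGrpC
attribute [local instance] HopfRep.Comod.regular

variable {k : Type u} [Field k] {A : Type u} [CommRing A] [HopfAlgebra k A]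

/-- the point given by the identity -/
def idPt : WithConv (A →ₐ[k] A) := toConv (AlgHom.id k A)

variable {C : Type u} [CommRing C] [Algebra k C]

theorem pushPt_idPt (h : WithConv (A →ₐ[k] C)) : pushPt h.ofConv (idPt (k := k) (A := A)) = h := rfl

theorem pushPt_constPt' {D : Type u} [CommRing D] [Algebra k D] (f : C →ₐ[k] D) (g : WithConv (A →ₐ[k] k)) :
    pushPt f (constPt C g) = constPt D g :=
  WithConv.ofConv_injective (AlgHom.ext fun a => f.commutes (g.ofConv a))

section Dl

variable {p : C →ₐ[k] k}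

/-- composition of a linear form with a point -/
def Dl (w : C →ₗ[k] k) (F : WithConv (A →ₐ[k] C)) : WithConv (A →ₗ[k] k) := toConv (w ∘ₗ F.ofConv.toLinearMap)

theorem Dl_apply (w : C →ₗ[k] k) (F : WithConv (A →ₐ[k] C)) (a : A) : (Dl w F).ofConv a = w (F.ofConv a) := rfl

theorem Dl_mem_lie {w : C →ₗ[k] k} (hw : IsDer p w) {F : WithConv (A →ₐ[k] C)} (hF : pushPt p F = 1) :
    Dl w F ∈ lie k A := fun a b => by
  rw [Dl_apply, map_mul, hw, ← hF]
  rfl

theorem Dl_mul {w : C →ₗ[k] k} (hw : IsDer p w) (F G : WithConv (A →ₐ[k] C)) :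
    Dl w (F * G) = Dl w F * lin (pushPt p G) + lin (pushPt p F) * Dl w G := by
  refine WithConv.ofConv_injective (LinearMap.ext fun a => ?_)
  rw [ofConv_add, LinearMap.add_apply, Dl_apply, conv_mul_apply, conv_mul_apply, conv_mul_apply']
  generalize Coalgebra.comul (R := k) a = x
  induction x using TensorProduct.induction_on with
  | zero => simp
  | add s t hs ht => simp only [map_add, hs, ht]; ring
  | tmul s t =>
    simp only [Algebra.TensorProduct.lift_tmul, TensorProduct.map_tmul, LinearMap.mul'_apply, hw (F.ofConv s) (G.ofConv t),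
      Dl_apply, lin_apply, pushPt_apply]
    ring

theorem Dl_constPt {w : C →ₗ[k] k} (hw : IsDer p w) (g : WithConv (A →ₐ[k] k)) : Dl w (constPt C g) = 0 :=
  WithConv.ofConv_injective (LinearMap.ext fun a => IsDer.map_algebraMap hw (g.ofConv a))

theorem Dl_inv {w : C →ₗ[k] k} (hw : IsDer p w) {F : WithConv (A →ₐ[k] C)} (hF : pushPt p F = 1) :
    Dl w F⁻¹ = - Dl w F := by
  have h := Dl_mul hw F F⁻¹
  rw [mul_inv_cancel, map_inv, hF, inv_one, map_one, mul_one, one_mul,
    show (1 : WithConv (A →ₐ[k] C)) = constPt C 1 from (map_one _).symm, Dl_constPt hw] at h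
  exact (neg_eq_of_add_eq_zero_right h.symm).symm

end Dl

/-- the equations of the centraliser -/
def centIdeal (g : WithConv (A →ₐ[k] k)) : Ideal A :=
  Ideal.span (Set.range fun a : A => (constPt A g * idPt).ofConv a - (idPt * constPt A g).ofConv a)

theorem centIdeal_le_iff (g : WithConv (A →ₐ[k] k)) (h : WithConv (A →ₐ[k] C)) :
    (∀ x ∈ centIdeal g, h.ofConv x = 0) ↔ Commute (constPt C g) h := by
  have key : ∀ a, h.ofConv ((constPt A g * idPt).ofConv a - (idPt * constPt A g).ofConv a) =
      (constPt C g * h).ofConv a - (h * constPt C g).ofConv a := fun a => by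
    rw [map_sub, ← pushPt_apply, ← pushPt_apply, map_mul, map_mul, pushPt_idPt, pushPt_constPt']
  constructor
  · intro H
    refine WithConv.ofConv_injective (AlgHom.ext fun a => sub_eq_zero.1 ?_)
    rw [← key]
    exact H _ (Ideal.subset_span ⟨a, rfl⟩)
  · intro H x hx
    induction hx using Submodule.span_induction with
    | mem y hy =>
      obtain ⟨a, rfl⟩ := hy
      rw [key, H.eq, sub_self]
    | zero => simp
    | add y z _ _ hy hz => rw [map_add, hy, hz, add_zero]
    | smul c y _ hy => rw [smul_eq_mul, map_mul, hy, mul_zero]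

theorem commute_mk (g : WithConv (A →ₐ[k] k)) :
    Commute (constPt (A ⧸ centIdeal g) g) (toConv (Ideal.Quotient.mkₐ k (centIdeal g))) :=
  (centIdeal_le_iff g (toConv (Ideal.Quotient.mkₐ k (centIdeal g)))).1 fun _ hx => Ideal.Quotient.eq_zero_iff_mem.2 hx

instance isHopfIdeal_centIdeal (g : WithConv (A →ₐ[k] k)) : (centIdeal g).IsHopfIdeal k := by
  set J := centIdeal g
  refine { counit_eq_zero := fun a ha => ?_, map_mkQ_comul_eq_zero := fun a ha => ?_, antipode_mem := fun a ha => ?_ }
  · have h := (centIdeal_le_iff (C := k) g 1).2 ((show (1 : WithConv (A →ₐ[k] k)) = constPt k 1 from (map_one (constPt k)).symm) ▸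
      (Commute.one_right g).map (constPt k)) a ha
    simpa using h
  · refine (map_mkQ_eq _).2 ?_
    let π : WithConv (A →ₐ[k] A ⧸ J) := toConv (Ideal.Quotient.mkₐ k J)
    let jL : A ⧸ J →ₐ[k] (A ⧸ J) ⊗[k] (A ⧸ J) := Algebra.TensorProduct.includeLeft
    let jR : A ⧸ J →ₐ[k] (A ⧸ J) ⊗[k] (A ⧸ J) := Algebra.TensorProduct.includeRight
    have hc : Commute (constPt ((A ⧸ J) ⊗[k] (A ⧸ J)) g) (pushPt jL π * pushPt jR π) := by
      have h1 := (commute_mk g).map (pushPt jL)
      have h2 := (commute_mk g).map (pushPt jR)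
      rw [pushPt_constPt'] at h1 h2
      exact h1.mul_right h2
    refine Eq.trans ?_ ((centIdeal_le_iff g _).2 hc a ha)
    rw [conv_mul_apply']
    generalize Coalgebra.comul (R := k) a = z
    induction z using TensorProduct.induction_on with
    | zero => simp
    | tmul x y => simp [jL, jR, π, pushPt_apply, Algebra.TensorProduct.tmul_mul_tmul]
    | add x y hx hy => simp only [map_add, hx, hy]
  · rw [← Ideal.Quotient.eq_zero_iff_mem]
    exact (centIdeal_le_iff g _).2 (commute_mk g).inv_right a ha

/-- derivations at the identity fixed by conjugation kill the equations of the centraliser -/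
theorem lie_fixed_kills (g : WithConv (A →ₐ[k] k)) {b : WithConv (A →ₗ[k] k)} (hb : b ∈ lie k A)
    (hfix : lin g * b * lin g⁻¹ = b) : ∀ x ∈ centIdeal g, b.ofConv x = 0 := by
  have hfix' : lin g * b = b * lin g := by
    conv_rhs => rw [← hfix, mul_assoc, ← map_mul, inv_mul_cancel, map_one, mul_one]
  have hid : Dl b.ofConv (idPt (k := k) (A := A)) = b := rfl
  intro x hx
  suffices ∀ r : A, b.ofConv (r * x) = 0 by simpa using this 1
  induction hx using Submodule.span_induction with
  | mem y hy =>
    obtain ⟨a, rfl⟩ := hy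
    intro r
    rw [hb, map_sub b.ofConv, ← Dl_apply, ← Dl_apply, Dl_mul (p := (1 : WithConv (A →ₐ[k] k)).ofConv) hb,
      Dl_mul (p := (1 : WithConv (A →ₐ[k] k)).ofConv) hb, Dl_constPt (p := (1 : WithConv (A →ₐ[k] k)).ofConv) hb,
      pushPt_idPt, pushPt_constPt, hid, map_one, zero_mul, zero_add, mul_zero, add_zero, hfix', sub_self, mul_zero,
      map_sub, ← pushPt_apply, ← pushPt_apply, map_mul, map_mul, pushPt_idPt, pushPt_constPt, mul_one, one_mul,
      sub_self, zero_mul, add_zero]
  | zero => intro r; simp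
  | add y z _ _ hy hz => intro r; rw [mul_add, map_add, hy, hz, add_zero]
  | smul c y _ hy => intro r; rw [smul_eq_mul, ← mul_assoc]; exact hy _

/-- the source of the slice map -/
abbrev Src (g : WithConv (A →ₐ[k] k)) := A ⊗[k] (A ⧸ centIdeal g)

/-- the coordinate of the group -/
def ptX (g : WithConv (A →ₐ[k] k)) : WithConv (A →ₐ[k] Src g) := toConv Algebra.TensorProduct.includeLeft

/-- the coordinate of the centraliser -/
def ptH (g : WithConv (A →ₐ[k] k)) : WithConv (A →ₐ[k] Src g) :=
  toConv ((Algebra.TensorProduct.includeRight : (A ⧸ centIdeal g) →ₐ[k] Src g).comp (Ideal.Quotient.mkₐ k (centIdeal g)))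

theorem push_ptX_inv (g : WithConv (A →ₐ[k] k)) (y : Src g →ₐ[k] k) :
    pushPt y (ptX g)⁻¹ = (pushPt y (ptX g))⁻¹ := map_inv (pushPt y) (ptX g)

/-- the slice map `(x, h) ↦ x g h x⁻¹` -/
def slicePt (g : WithConv (A →ₐ[k] k)) : WithConv (A →ₐ[k] Src g) :=
  ptX g * (constPt (Src g) g * ptH g) * (ptX g)⁻¹

/-- the base point of the source -/
def srcBase (g : WithConv (A →ₐ[k] k)) : Src g →ₐ[k] k :=
  Algebra.TensorProduct.lift (1 : WithConv (A →ₐ[k] k)).ofConv (Bialgebra.counitAlgHom k (A ⧸ centIdeal g))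
    fun _ _ => Commute.all _ _

theorem srcBase_ptX (g : WithConv (A →ₐ[k] k)) : pushPt (srcBase g) (ptX g) = 1 :=
  WithConv.ofConv_injective (AlgHom.ext fun a => by simp [srcBase, ptX, pushPt_apply])

theorem srcBase_ptH (g : WithConv (A →ₐ[k] k)) : pushPt (srcBase g) (ptH g) = 1 :=
  WithConv.ofConv_injective (AlgHom.ext fun a => by
    change srcBase g ((1 : A) ⊗ₜ[k] Ideal.Quotient.mkₐ k (centIdeal g) a) = _
    rw [srcBase, Algebra.TensorProduct.lift_tmul, map_one, one_mul, one_ofConv_apply]
    rfl)

theorem srcBase_slicePt (g : WithConv (A →ₐ[k] k)) : pushPt (srcBase g) (slicePt g) = g := by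
  rw [slicePt, map_mul, map_mul, map_mul]
  rw [push_ptX_inv]
  rw [srcBase_ptX, srcBase_ptH, pushPt_constPt, one_mul, mul_one, inv_one, mul_one]

theorem commute_ptH (g : WithConv (A →ₐ[k] k)) : Commute (constPt (Src g) g) (ptH g) := by
  rw [← pushPt_constPt' (Algebra.TensorProduct.includeRight : (A ⧸ centIdeal g) →ₐ[k] Src g) g]
  exact (commute_mk g).map (pushPt (Algebra.TensorProduct.includeRight : (A ⧸ centIdeal g) →ₐ[k] Src g))

theorem ring_identity {R : Type*} [Ring R] (G G' a b : R) (h : G' * G = 1) :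
    -(G * (a * G')) * G + G * b + G * (G * (a * G')) = G * (G * (a * G') - a + b) := by
  rw [neg_mul, mul_assoc, mul_assoc, h, mul_one, mul_add, mul_sub]
  abel

/-- every tangent vector at `g` is hit -/
theorem exists_lift_der [PerfectField k] {U : Submodule k A} (hU : HopfRep.IsSubcomod (k := k) (A := A) U)
    [Module.Finite k U] (hgen : Algebra.adjoin k (U : Set A) = ⊤) (g : WithConv (A →ₐ[k] k))
    (hg : (Jordan.T g hU).IsSemisimple) (v : A →ₗ[k] k)
    (hv : IsDer ((srcBase g).comp (slicePt g).ofConv) v) :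
    ∃ w : Src g →ₗ[k] k, IsDer (srcBase g) w ∧ ∀ r, w ((slicePt g).ofConv r) = v r := by
  have hp : (srcBase g).comp (slicePt g).ofConv = g.ofConv := congrArg WithConv.ofConv (srcBase_slicePt g)
  rw [hp] at hv
  have hv0 : lin g⁻¹ * toConv v ∈ lie k A := by
    have h := IsDer.conv_left (g := g⁻¹) (p := g) (v := toConv v) hv
    rwa [inv_mul_cancel] at h
  obtain ⟨a₀, ha₀, b, hb, hdec, hfix⟩ := exists_decomp hU hgen g hg hv0
  let a : WithConv (A →ₗ[k] k) := -(lin g * a₀ * lin g⁻¹)
  have ha : a ∈ lie k A := Submodule.neg_mem _ (conj_mem_lie g ha₀)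
  let J := centIdeal g
  let bq : A ⧸ J →ₗ[k] k := (Submodule.liftQ (J.restrictScalars k) b.ofConv
      fun x hx => lie_fixed_kills g hb hfix x hx) ∘ₗ (Submodule.Quotient.restrictScalarsEquiv k J).symm.toLinearMap
  have hbq : ∀ x : A, bq (Ideal.Quotient.mk J x) = b.ofConv x := fun x => rfl
  let εB := Bialgebra.counitAlgHom k (A ⧸ J)
  have hεB : ∀ x : A, εB (Ideal.Quotient.mk J x) = (1 : WithConv (A →ₐ[k] k)).ofConv x := fun x => by
    rw [one_ofConv_apply]; rfl
  let w : Src g →ₗ[k] k := LinearMap.mul' k k ∘ₗ TensorProduct.map a.ofConv εB.toLinearMap +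
    LinearMap.mul' k k ∘ₗ TensorProduct.map (1 : WithConv (A →ₐ[k] k)).ofConv.toLinearMap bq
  have hwv : ∀ (x : A) (y : A ⧸ J), w (x ⊗ₜ y) =
      a.ofConv x * εB y + (1 : WithConv (A →ₐ[k] k)).ofConv x * bq y := fun x y => rfl
  have hbd : ∀ y z : A ⧸ J, bq (y * z) = εB y * bq z + εB z * bq y := fun y z => by
    obtain ⟨y, rfl⟩ := Ideal.Quotient.mk_surjective y
    obtain ⟨z, rfl⟩ := Ideal.Quotient.mk_surjective z
    rw [← map_mul, hbq, hbq, hbq, hεB, hεB]
    exact hb y z
  have hw : IsDer (srcBase g) w := fun X Y => by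
    induction X using TensorProduct.induction_on with
    | zero => simp
    | add s t hs ht => simp only [add_mul, map_add, hs, ht]; ring
    | tmul s t =>
      induction Y using TensorProduct.induction_on with
      | zero => simp
      | add q r hq hr => simp only [mul_add, map_add, hq, hr]; ring
      | tmul q r =>
        rw [Algebra.TensorProduct.tmul_mul_tmul, hwv, hwv, hwv, srcBase, Algebra.TensorProduct.lift_tmul,
          Algebra.TensorProduct.lift_tmul, ha s q, map_mul, map_mul, hbd]
        ring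
  have hX : Dl w (ptX g) = a := WithConv.ofConv_injective (LinearMap.ext fun x => by
    have h1 : bq (1 : A ⧸ J) = 0 := (hbq 1).trans (IsDer.map_one hb)
    change w (x ⊗ₜ 1) = _
    rw [hwv, map_one, mul_one, h1, mul_zero, add_zero])
  have hH : Dl w (ptH g) = b := WithConv.ofConv_injective (LinearMap.ext fun x => by
    change w ((1 : A) ⊗ₜ Ideal.Quotient.mk J x) = _
    rw [hwv, IsDer.map_one ha, zero_mul, zero_add, map_one, one_mul, hbq])
  refine ⟨w, hw, fun r => ?_⟩
  have key : Dl w (slicePt g) = toConv v := by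
    rw [slicePt, Dl_mul hw, Dl_mul hw, Dl_mul hw, Dl_constPt hw, Dl_inv hw (srcBase_ptX g), hX, hH, map_mul, map_mul]
    rw [push_ptX_inv]
    rw [srcBase_ptX]
    simp only [map_mul, srcBase_ptX, srcBase_ptH, pushPt_constPt, mul_one, one_mul, inv_one, map_one, zero_add]
    have e : toConv v = lin g * (lin g⁻¹ * toConv v) := by
      rw [← mul_assoc, ← map_mul, mul_inv_cancel, map_one, one_mul]
    rw [e, hdec]
    simp only [a, mul_neg, neg_neg, mul_assoc]
    exact ring_identity (lin g) (lin g⁻¹) a₀ b (by rw [← map_mul, inv_mul_cancel, map_one])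
  rw [← Dl_apply, key]

end Groth.Misc1.Unip.Conj

namespace Groth.Misc1.Unip.Conj

attribute [local instance 100] convGrpC
attribute [local instance] HopfRep.Comod.regular

variable {k : Type u} [Field k] {A : Type u} [CommRing A] [HopfAlgebra k A]

/-- every translation by the point is semisimple -/
def IsSS (z : WithConv (A →ₐ[k] k)) : Prop :=
  ∀ (U : Submodule k A) (hU : HopfRep.IsSubcomod (k := k) (A := A) U), Module.Finite k U →
    (Jordan.T z hU).IsSemisimple

/-- translation as a homomorphism -/
def TU {U : Submodule k A} (hU : HopfRep.IsSubcomod (k := k) (A := A) U) :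
    WithConv (A →ₐ[k] k) →* Module.End k U :=
  (rhoU hU : WithConv (A →ₗ[k] k) →* Module.End k U).comp lin

theorem TU_apply {U : Submodule k A} (hU : HopfRep.IsSubcomod (k := k) (A := A) U) (g : WithConv (A →ₐ[k] k)) :
    TU hU g = Jordan.T g hU := rhoU_lin hU g

/-- translations of conjugate points are conjugate -/
theorem exists_conjAlgEquiv {U : Submodule k A} (hU : HopfRep.IsSubcomod (k := k) (A := A) U)
    (x z : WithConv (A →ₐ[k] k)) :
    ∃ e : U ≃ₗ[k] U, Jordan.T (x * z * x⁻¹) hU = e.conj (Jordan.T z hU) := by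
  let e : U ≃ₗ[k] U := LinearEquiv.ofLinear (TU hU x) (TU hU x⁻¹)
    (by rw [← Module.End.mul_eq_comp, ← map_mul, mul_inv_cancel, map_one]; rfl)
    (by rw [← Module.End.mul_eq_comp, ← map_mul, inv_mul_cancel, map_one]; rfl)
  refine ⟨e, ?_⟩
  rw [← TU_apply, ← TU_apply, map_mul, map_mul]
  rfl

theorem IsSS.conj {z : WithConv (A →ₐ[k] k)} (hz : IsSS z) (x : WithConv (A →ₐ[k] k)) : IsSS (x * z * x⁻¹) := by
  intro U hU hfin
  obtain ⟨e, he⟩ := exists_conjAlgEquiv hU x z
  refine (LinearEquiv.isSemisimple_iff (f := Jordan.T z hU) (Jordan.T (x * z * x⁻¹) hU) e ?_).1 (hz U hU hfin)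
  rw [he]
  exact LinearMap.ext fun y => by simp [LinearEquiv.conj_apply]

theorem charpoly_conj_point {U : Submodule k A} (hU : HopfRep.IsSubcomod (k := k) (A := A) U) [Module.Finite k U]
    (x z : WithConv (A →ₐ[k] k)) : (Jordan.T (x * z * x⁻¹) hU).charpoly = (Jordan.T z hU).charpoly := by
  obtain ⟨e, he⟩ := exists_conjAlgEquiv hU x z
  rw [he, LinearEquiv.charpoly_conj]

variable [IsAlgClosed k] [CharZero k] [Algebra.FiniteType k A]

variable (k A) in
theorem exists_generating : ∃ U : Submodule k A, HopfRep.IsSubcomod (k := k) (A := A) U ∧ Module.Finite k U ∧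
    Algebra.adjoin k (U : Set A) = ⊤ := by
  obtain ⟨s, hs⟩ := Algebra.FiniteType.out (R := k) (A := A)
  obtain ⟨U, h1, h2, h3⟩ := exists_finite_subcomod_span (k := k) (A := A) (V := A) s.finite_toSet
  exact ⟨U, h3, h1, top_le_iff.1 (hs ▸ Algebra.adjoin_mono h2)⟩

/-- near a semisimple point, semisimple points with the same characteristic polynomial are conjugate to it -/
theorem exists_open_conj {g : WithConv (A →ₐ[k] k)} (hg : IsSS g) :
    ∃ f : A, g.ofConv f ≠ 0 ∧ ∀ z : WithConv (A →ₐ[k] k), z.ofConv f ≠ 0 → IsSS z →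
      (∀ (U : Submodule k A) (hU : HopfRep.IsSubcomod (k := k) (A := A) U) [Module.Finite k U],
        (Jordan.T z hU).charpoly = (Jordan.T g hU).charpoly) →
      ∃ x, x * g * x⁻¹ = z := by
  classical
  obtain ⟨U, hU, hfin, hgen⟩ := exists_generating k A
  letI cU := ComodSub.Comod.restr (HopfRep.Comod.regular k A) U hU
  let b := Module.finBasis k U
  let G := Jordan.T g hU
  let Λ : Finset k := G.charpoly.roots.toFinset
  let E : Finset k := ((Λ ×ˢ Λ).image fun p => p.1 / p.2).erase 1
  let dA : A := ∏ c ∈ E, (cfMat (A := A) b).charpoly.eval (algebraMap k A c)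
  have hdA : ∀ h : WithConv (A →ₐ[k] k), h.ofConv dA = ∏ c ∈ E, (Jordan.T h hU).charpoly.eval c := fun h => by
    have hmat : (cfMat (A := A) b).map h.ofConv = LinearMap.toMatrix b b (Jordan.T h hU) := by
      refine Matrix.ext fun i j => ?_
      rw [Matrix.map_apply, LinearMap.toMatrix_apply, ← rhoU_lin]
      change h.ofConv.toLinearMap (cf (A := A) (b.coord i) (b j)) = _
      rw [apply_cf]
      rfl
    rw [map_prod]
    refine Finset.prod_congr rfl fun c _ => ?_
    rw [← LinearMap.charpoly_toMatrix _ b, ← hmat, show (cfMat (A := A) b).map h.ofConv =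
      (cfMat (A := A) b).map h.ofConv.toRingHom from rfl, Matrix.charpoly_map, Polynomial.eval_map]
    conv_rhs => rw [show c = h.ofConv.toRingHom (algebraMap k A c) from (h.ofConv.commutes c).symm]
    rw [Polynomial.eval₂_hom]
    rfl
  let J := centIdeal g
  have : Algebra.FiniteType k (A ⧸ J) := Algebra.FiniteType.of_surjective (Ideal.Quotient.mkₐ k J)
    (Ideal.Quotient.mkₐ_surjective k J)
  have : Algebra.Smooth k A := Groth.ComodLib.smooth_of_hopfAlgebra_charZero k A
  have : Algebra.Smooth k (A ⧸ J) := Groth.ComodLib.smooth_of_hopfAlgebra_charZero k (A ⧸ J)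
  have : Algebra.Smooth k (Src g) := Algebra.Smooth.comp k A (Src g)
  have : Algebra.FiniteType k (Src g) := inferInstance
  have hd : srcBase g ((ptH g).ofConv dA) ≠ 0 := by
    rw [← pushPt_apply, srcBase_ptH, hdA]
    refine Finset.prod_ne_zero_iff.2 fun c hc => ?_
    rw [← TU_apply, map_one]
    intro h0
    have h1 : Module.End.HasEigenvalue (1 : Module.End k U) c :=
      (Module.End.hasEigenvalue_iff_isRoot_charpoly _ _).2 h0
    obtain ⟨y, hy⟩ := h1.exists_hasEigenvector
    have h2 : y = c • y := hy.apply_eq_smul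
    exact Finset.ne_of_mem_erase hc (smul_left_injective k hy.2 (h2.symm.trans (one_smul k y).symm))
  obtain ⟨f, hf, hsub⟩ := exists_nhd_image (slicePt g).ofConv (srcBase g)
    (exists_lift_der hU hgen g (hg U hU hfin)) _ hd
  refine ⟨f, ?_, fun z hz hzss hchar => ?_⟩
  · rwa [← pushPt_apply, srcBase_slicePt] at hf
  obtain ⟨y, hyd, hyz⟩ := hsub z.ofConv hz
  set x := pushPt y (ptX g) with hx
  set h := pushPt y (ptH g) with hh
  have hgh : Commute g h := by
    have := (commute_ptH g).map (pushPt y)
    rwa [pushPt_constPt] at this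
  have hz' : z = x * (g * h) * x⁻¹ := by
    refine Eq.trans (?_ : z = pushPt y (slicePt g)) ?_
    · exact WithConv.ofConv_injective hyz.symm
    · rw [slicePt, map_mul, map_mul, map_mul]
      rw [push_ptX_inv]
      rw [pushPt_constPt]
  have hghss : IsSS (g * h) := by
    have := hzss.conj x⁻¹
    rwa [hz', inv_inv, ← mul_assoc, ← mul_assoc, inv_mul_cancel, one_mul, mul_assoc, inv_mul_cancel, mul_one] at this
  have hchar' : (Jordan.T (g * h) hU).charpoly = G.charpoly := by
    rw [← charpoly_conj_point hU x, ← hz', hchar U hU]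
  have hne : ∀ c ∈ E, (Jordan.T h hU).charpoly.eval c ≠ 0 := by
    have h0 : h.ofConv dA ≠ 0 := hyd
    rw [hdA] at h0
    exact Finset.prod_ne_zero_iff.1 h0
  have hone : Jordan.T h hU = 1 := by
    refine LinearMap.ext fun v => ?_
    have hv := (iSup_common_eigen (fun i : Bool => cond i G (Jordan.T (g * h) hU)) (fun i j => by
      have hc : Commute G (Jordan.T (g * h) hU) := by
        simp only [G, ← TU_apply]
        exact ((Commute.refl g).mul_right hgh).map _
      cases i <;> cases j
      exacts [Commute.refl _, hc.symm, hc, Commute.refl _])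
      (fun i => by cases i; exacts [hghss U hU hfin, hg U hU hfin])).ge (Submodule.mem_top (x := v))
    induction hv using Submodule.iSup_induction' with
    | zero => simp
    | add p q _ _ hp hq => rw [map_add, map_add, hp, hq]
    | mem χ w hw =>
      rcases eq_or_ne w 0 with rfl | hw0
      · simp
      simp only [Submodule.mem_iInf, Module.End.mem_eigenspace_iff] at hw
      have h1 : G w = χ true • w := hw true
      have h2 : Jordan.T (g * h) hU w = χ false • w := hw false
      have hroot : ∀ (T : Module.End k U) (r : k), T w = r • w → T.charpoly.IsRoot r := fun T r e =>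
        (Module.End.hasEigenvalue_iff_isRoot_charpoly _ _).1 (Module.End.hasEigenvalue_of_hasEigenvector
          ⟨Module.End.mem_eigenspace_iff.2 e, hw0⟩)
      have hne0 : χ true ≠ 0 := fun e => hw0 (by
        have := congrArg (TU hU g⁻¹) h1
        rwa [e, zero_smul, map_zero, show G = TU hU g from (TU_apply hU g).symm, ← Module.End.mul_apply,
          ← map_mul, inv_mul_cancel, map_one, Module.End.one_apply] at this)
      have hmem : ∀ r : k, G.charpoly.IsRoot r → r ∈ Λ := fun r e => by
        rw [Multiset.mem_toFinset, Polynomial.mem_roots (LinearMap.charpoly_monic G).ne_zero]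
        exact e
      have hhw : Jordan.T h hU w = (χ false / χ true) • w := by
        rw [← TU_apply, hgh.eq, map_mul, Module.End.mul_apply, TU_apply hU g, show Jordan.T g hU w = χ true • w from h1,
          map_smul, TU_apply] at h2
        rw [div_eq_inv_mul, ← smul_smul, ← h2, inv_smul_smul₀ hne0]
      by_cases hc : χ false / χ true = 1
      · rw [hhw, hc, one_smul, Module.End.one_apply]
      · exfalso
        refine hne _ (Finset.mem_erase.2 ⟨hc, Finset.mem_image.2 ⟨(χ false, χ true), Finset.mem_product.2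
          ⟨hmem _ (hchar' ▸ hroot _ _ h2), hmem _ (hroot _ _ h1)⟩, rfl⟩⟩) (hroot _ _ hhw)
  exact ⟨x, by rw [hz', point_eq_one hU hgen hone, mul_one]⟩

end Groth.Misc1.Unip.Conj
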