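import Groth.Agent.EtaleAlgebra.SmoothTowerFibre
import Groth.Agent.GitQuot.Orbits
import Mathlib.RingTheory.Spectrum.Prime.Chevalley
import Mathlib.RingTheory.Smooth.StandardSmoothOfFree
import Mathlib.RingTheory.Smooth.Flat

/-!
# A map with surjective tangent map at a rational point hits a neighbourhood
-/

set_option autoImplicit false
set_option linter.unusedSectionVars false

universe u

open TensorProduct KaehlerDifferential

noncomputable section

namespace Groth.Misc1.Unip.Conj

variable {k : Type u} [Field k] {R P : Type u} [CommRing R] [CommRing P] [Algebra k R] [Algebra k P]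

/-- derivations at a point -/
def IsDer (q : R →ₐ[k] k) (v : R →ₗ[k] k) : Prop := ∀ a b : R, v (a * b) = q a * v b + q b * v a

theorem IsDer.map_one {q : R →ₐ[k] k} {v : R →ₗ[k] k} (hv : IsDer q v) : v 1 = 0 := by
  have h := hv 1 1
  rw [mul_one, _root_.map_one q, one_mul] at h
  exact left_eq_add.1 h

theorem IsDer.map_algebraMap {q : R →ₐ[k] k} {v : R →ₗ[k] k} (hv : IsDer q v) (c : k) :
    v (algebraMap k R c) = 0 := by
  rw [Algebra.algebraMap_eq_smul_one, map_smul, hv.map_one, smul_zero]

theorem IsDer.sub {q : R →ₐ[k] k} {v w : R →ₗ[k] k} (hv : IsDer q v) (hw : IsDer q w) : IsDer q (v - w) :=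
  fun a b => by
    simp only [LinearMap.sub_apply, hv a b, hw a b]
    ring

theorem isSmoothAt_of_lift [Algebra R P] [IsScalarTower k R P] [Algebra.FiniteType k R] [Algebra.Smooth k P]
    (p : P →ₐ[k] k)
    (h : ∀ v : R →ₗ[k] k, IsDer (p.comp (IsScalarTower.toAlgHom k R P)) v →
      ∃ w : P →ₗ[k] k, IsDer p w ∧ ∀ r, w (algebraMap R P r) = v r) :
    haveI : (RingHom.ker p).IsPrime := RingHom.ker_isPrime p
    Algebra.IsSmoothAt R (RingHom.ker p) := by
  have : Algebra.FinitePresentation k R := Algebra.FinitePresentation.of_finiteType.1 inferInstance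
  set q := RingHom.ker p with hq
  have : q.IsMaximal := RingHom.ker_isMaximal_of_surjective p fun c => ⟨algebraMap k P c, p.commutes c⟩
  have hC : Algebra.IsSmoothAt k q := inferInstance
  rw [Groth.EtaleAlgebra.isSmoothAt_iff_injective_lTensor k R P q hC]
  let κ := q.ResidueField
  have hsur := q.algebraMap_residueField_surjective
  have hres : ∀ x : P, algebraMap P κ x = algebraMap k κ (p x) := fun x => by
    rw [IsScalarTower.algebraMap_apply k P κ, ← sub_eq_zero, ← map_sub,
      Ideal.algebraMap_residueField_eq_zero, hq, RingHom.mem_ker, map_sub, AlgHom.commutes]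
    exact sub_self (p x)
  let ek : k →ₗ[k] κ := Algebra.linearMap k κ
  have hek : Function.Bijective ek := ⟨(algebraMap k κ).injective, fun y => by
    obtain ⟨x, rfl⟩ := hsur y
    exact ⟨p x, (hres x).symm⟩⟩
  let e := LinearEquiv.ofBijective ek hek
  have he : ∀ c, e c = algebraMap k κ c := fun c => rfl
  rw [injective_iff_map_eq_zero]
  intro x hx
  refine (Module.forall_dual_apply_eq_zero_iff κ x).1 fun ℓ => ?_
  let v : R →ₗ[k] k :=
    { toFun := fun r => e.symm (ℓ ((1 : κ) ⊗ₜ[P] ((1 : P) ⊗ₜ[R] D k R r)))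
      map_add' := fun a b => by simp only [map_add, TensorProduct.tmul_add]
      map_smul' := fun c a => by
        rw [Derivation.map_smul, TensorProduct.tmul_smul, TensorProduct.tmul_smul,
          ← algebraMap_smul κ c, map_smul, algebraMap_smul, map_smul, RingHom.id_apply] }
  have hv : ∀ r, e (v r) = ℓ ((1 : κ) ⊗ₜ[P] ((1 : P) ⊗ₜ[R] D k R r)) := fun r => e.apply_symm_apply _
  have hsm : ∀ (s : R) (ω : Ω[R⁄k]), ℓ ((1 : κ) ⊗ₜ[P] ((1 : P) ⊗ₜ[R] (s • ω))) =
      algebraMap k κ (p (algebraMap R P s)) * ℓ ((1 : κ) ⊗ₜ[P] ((1 : P) ⊗ₜ[R] ω)) := fun s ω => by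
    rw [TensorProduct.tmul_smul, ← algebraMap_smul P s ((1 : P) ⊗ₜ[R] ω), TensorProduct.tmul_smul,
      ← algebraMap_smul κ (algebraMap R P s), map_smul, hres, smul_eq_mul]
  obtain ⟨w, hwd, hwv⟩ := h v fun a b => by
    apply e.injective
    rw [hv, (D k R).leibniz, TensorProduct.tmul_add, TensorProduct.tmul_add, map_add, hsm, hsm, ← hv, ← hv,
      map_add, he, he, he, he, map_mul, map_mul]
    try rfl
  let w' : Derivation k P κ := Derivation.mk' (e.toLinearMap ∘ₗ w) fun a b => by
    rw [LinearMap.comp_apply, LinearEquiv.coe_coe, hwd a b, map_add, he, he, map_mul, map_mul, ← hres, ← hres]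
    simp [he, Algebra.smul_def]
  let ℓ' : κ ⊗[P] Ω[P⁄k] →ₗ[κ] κ := LinearMap.liftBaseChange κ w'.liftKaehlerDifferential
  have key : ∀ z, ℓ z = ℓ' ((mapBaseChange k R P).lTensor κ z) := by
    intro z
    induction z using TensorProduct.induction_on with
    | zero => simp
    | add a b ha hb => simp only [map_add, ha, hb]
    | tmul c y =>
      induction y using TensorProduct.induction_on with
      | zero => simp
      | add a b ha hb => simp only [TensorProduct.tmul_add, map_add, ha, hb]
      | tmul s ω =>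
        have hω : ω ∈ Submodule.span R (Set.range (D k R)) := by
          rw [span_range_derivation]; trivial
        induction hω using Submodule.span_induction generalizing s with
        | zero => simp
        | add a b _ _ ha hb => simp only [TensorProduct.tmul_add, map_add, ha, hb]
        | smul r a _ ha => rw [← TensorProduct.smul_tmul]; exact ha _
        | mem z hz =>
          obtain ⟨r, rfl⟩ := hz
          rw [show c ⊗ₜ[P] (s ⊗ₜ[R] D k R r) = (c * algebraMap P κ s) • ((1 : κ) ⊗ₜ[P] ((1 : P) ⊗ₜ[R] D k R r)) by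
            rw [show s ⊗ₜ[R] D k R r = s • ((1 : P) ⊗ₜ[R] D k R r) by
              rw [TensorProduct.smul_tmul', smul_eq_mul, mul_one], ← TensorProduct.smul_tmul,
              TensorProduct.smul_tmul', smul_eq_mul, mul_one, Algebra.smul_def, mul_comm]]
          rw [map_smul, ← hv]
          rw [show (mapBaseChange k R P).lTensor κ ((c * algebraMap P κ s) • ((1 : κ) ⊗ₜ[P] ((1 : P) ⊗ₜ[R] D k R r))) =
            (c * algebraMap P κ s) • ((1 : κ) ⊗ₜ[P] mapBaseChange k R P ((1 : P) ⊗ₜ[R] D k R r)) by
            simp [TensorProduct.smul_tmul'], map_smul, mapBaseChange_tmul, one_smul, map_D]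
          refine congrArg (HSMul.hSMul (c * algebraMap P κ s)) ?_
          refine Eq.trans ?_ (LinearMap.liftBaseChange_tmul _ _ _ _).symm
          rw [one_smul, Derivation.liftKaehlerDifferential_comp_D]
          exact congrArg e (hwv r).symm
  rw [key, hx, map_zero]

/-- the image of a neighbourhood contains a neighbourhood -/
theorem exists_nhd_image [IsAlgClosed k] [Algebra.FiniteType k R] [Algebra.FiniteType k P] [Algebra.Smooth k P]
    (F : R →ₐ[k] P) (p : P →ₐ[k] k)
    (h : ∀ v : R →ₗ[k] k, IsDer (p.comp F) v → ∃ w : P →ₗ[k] k, IsDer p w ∧ ∀ r, w (F r) = v r)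
    (d : P) (hd : p d ≠ 0) :
    ∃ f : R, p (F f) ≠ 0 ∧ ∀ z : R →ₐ[k] k, z f ≠ 0 → ∃ y : P →ₐ[k] k, y d ≠ 0 ∧ y.comp F = z := by
  letI : Algebra R P := F.toRingHom.toAlgebra
  have : IsScalarTower k R P := .of_algebraMap_eq' F.comp_algebraMap.symm
  have : (RingHom.ker p).IsPrime := RingHom.ker_isPrime p
  have hsm : Algebra.IsSmoothAt R (RingHom.ker p) := isSmoothAt_of_lift p h
  have : Algebra.FinitePresentation k R := Algebra.FinitePresentation.of_finiteType.1 inferInstance
  have : Algebra.FiniteType R P := Algebra.FiniteType.of_restrictScalars_finiteType k R P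
  have : Algebra.FinitePresentation R P := Algebra.FinitePresentation.of_restrict_scalars_finitePresentation k R P
  obtain ⟨s, hs, hss⟩ := Algebra.IsSmoothAt.exists_notMem_isStandardSmooth (R := R) (RingHom.ker p)
  let T := Localization.Away s
  have hopen : IsOpenMap (PrimeSpectrum.comap (algebraMap R T)) :=
    PrimeSpectrum.isOpenMap_comap_of_hasGoingDown_of_finitePresentation
  have hsu : IsUnit (p s) := isUnit_iff_ne_zero.2 fun e => hs e
  let q₀ : T →+* k := IsLocalization.Away.lift s (g := p.toRingHom) hsu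
  have hq₀ : ∀ x : P, q₀ (algebraMap P T x) = p x := fun x => IsLocalization.Away.lift_eq s hsu x
  have := RingHom.ker_isPrime q₀
  let Q₀ : PrimeSpectrum T := ⟨RingHom.ker q₀, inferInstance⟩
  let U : Set (PrimeSpectrum T) := PrimeSpectrum.basicOpen (algebraMap P T d)
  have hQ₀ : Q₀ ∈ U := by
    change algebraMap P T d ∉ RingHom.ker q₀
    rwa [RingHom.mem_ker, hq₀]
  obtain ⟨_, ⟨_, ⟨f, rfl⟩, rfl⟩, hf, hsub⟩ :=
    PrimeSpectrum.isBasis_basic_opens.exists_subset_of_mem_open (Set.mem_image_of_mem _ hQ₀)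
      (hopen U (PrimeSpectrum.basicOpen _).isOpen)
  refine ⟨f, ?_, fun z hz => ?_⟩
  · have hf' : algebraMap R T f ∉ RingHom.ker q₀ := hf
    rwa [RingHom.mem_ker, IsScalarTower.algebraMap_apply R P T, hq₀] at hf'
  · have := RingHom.ker_isPrime z
    obtain ⟨Q, hQU, hQ⟩ := hsub (show (⟨RingHom.ker z, inferInstance⟩ : PrimeSpectrum R) ∈
      (PrimeSpectrum.basicOpen f : Set (PrimeSpectrum R)) from hz)
    have hQz : ∀ r : R, algebraMap R T r ∈ Q.asIdeal ↔ z r = 0 := fun r => by
      have e := congrArg (fun I => r ∈ PrimeSpectrum.asIdeal I) hQ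
      exact iff_of_eq e
    have : Algebra.FiniteType P T := IsLocalization.finiteType_of_monoid_fg (Submonoid.powers s) T
    have hTk : Algebra.FiniteType k T := Algebra.FiniteType.trans (S := P) inferInstance inferInstance
    let dT := algebraMap P T d
    let Td := Localization.Away dT
    have : Algebra.FiniteType T Td := IsLocalization.finiteType_of_monoid_fg (Submonoid.powers dT) Td
    have hTdk : Algebra.FiniteType k Td := Algebra.FiniteType.trans (S := T) inferInstance inferInstance
    have hne : Ideal.map (algebraMap T Td) Q.asIdeal ≠ ⊤ :=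
      (IsLocalization.map_algebraMap_ne_top_iff_disjoint (Submonoid.powers dT) Td _).2
        (Set.disjoint_left.2 fun x ⟨m, hm⟩ hx => hQU (Q.isPrime.mem_of_pow_mem m (show dT ^ m ∈ Q.asIdeal from (show dT ^ m = x from hm).symm ▸ hx)))
    obtain ⟨y, hy⟩ := Groth.GitQuot.exists_point (k := k) _ hne
    let yT : T →ₐ[k] k := y.comp (IsScalarTower.toAlgHom k T Td)
    refine ⟨yT.comp (IsScalarTower.toAlgHom k P T), ?_, ?_⟩
    · exact (isUnit_iff_ne_zero.1 ((IsLocalization.Away.algebraMap_isUnit (S := Td) dT).map y))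
    · refine AlgHom.ext fun r => ?_
      have hmem : algebraMap R T (r - algebraMap k R (z r)) ∈ Q.asIdeal := (hQz _).2 (by simp)
      have h2 : yT (algebraMap R T (r - algebraMap k R (z r))) = 0 := hy (Ideal.mem_map_of_mem _ hmem)
      rw [map_sub, map_sub, ← IsScalarTower.algebraMap_apply k R T, AlgHom.commutes, sub_eq_zero] at h2
      rw [IsScalarTower.algebraMap_apply R P T] at h2
      exact h2

end Groth.Misc1.Unip.Conj
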