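import Groth.Agent.Misc1.Unip.Conj.PointCriterion
import Groth.Agent.Misc1.Unip.AllSS
import Groth.Agent.Misc1.Unip.Quotient
import Mathlib.LinearAlgebra.Eigenspace.Charpoly

/-!
# The tangent space of a conjugacy class of a semisimple point
-/

set_option autoImplicit false
set_option linter.unusedSectionVars false

universe u

open TensorProduct WithConv Groth.ComodLib

noncomputable section

namespace Groth.Misc1.Unip.Conj

attribute [local instance 100] convGrpC
attribute [local instance] HopfRep.Comod.regular

variable {k : Type u} [Field k] {A : Type u} [CommRing A] [HopfAlgebra k A]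

/-- a point as a linear form in the convolution algebra -/
def lin : WithConv (A →ₐ[k] k) →* WithConv (A →ₗ[k] k) where
  toFun g := toConv g.ofConv.toLinearMap
  map_one' := AlgHom.toLinearMap_convOne
  map_mul' g h := AlgHom.toLinearMap_convMul g h

theorem lin_apply (g : WithConv (A →ₐ[k] k)) (a : A) : (lin g).ofConv a = g.ofConv a := rfl

theorem one_ofConv_apply (a : A) : (1 : WithConv (A →ₐ[k] k)).ofConv a = Coalgebra.counit (R := k) a := by
  simp

theorem conv_mul_apply (φ ψ : WithConv (A →ₗ[k] k)) (a : A) :
    (φ * ψ).ofConv a = LinearMap.mul' k k (TensorProduct.map φ.ofConv ψ.ofConv (Coalgebra.comul (R := k) a)) := rfl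

theorem conv_mul_apply' {C : Type u} [CommRing C] [Algebra k C] (F G : WithConv (A →ₐ[k] C)) (a : A) :
    (F * G).ofConv a =
      Algebra.TensorProduct.lift F.ofConv G.ofConv (fun _ _ => Commute.all _ _) (Coalgebra.comul (R := k) a) :=
  AlgHom.convMul_apply F G a

theorem IsDer.conv_left {p g : WithConv (A →ₐ[k] k)} {v : WithConv (A →ₗ[k] k)} (hv : IsDer p.ofConv v.ofConv) :
    IsDer (g * p).ofConv (lin g * v).ofConv := by
  intro a b
  rw [conv_mul_apply, conv_mul_apply, conv_mul_apply, conv_mul_apply', conv_mul_apply', Bialgebra.comul_mul]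
  generalize Coalgebra.comul (R := k) a = x
  generalize Coalgebra.comul (R := k) b = y
  induction x using TensorProduct.induction_on with
  | zero => simp
  | add s t hs ht => simp only [add_mul, map_add, hs, ht]; ring
  | tmul s t =>
    induction y using TensorProduct.induction_on with
    | zero => simp
    | add q r hq hr => simp only [mul_add, map_add, hq, hr]; ring
    | tmul q r =>
      simp only [Algebra.TensorProduct.tmul_mul_tmul, TensorProduct.map_tmul, LinearMap.mul'_apply,
        Algebra.TensorProduct.lift_tmul, hv t r, lin_apply, map_mul]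
      ring

theorem IsDer.conv_right {p g : WithConv (A →ₐ[k] k)} {v : WithConv (A →ₗ[k] k)} (hv : IsDer p.ofConv v.ofConv) :
    IsDer (p * g).ofConv (v * lin g).ofConv := by
  intro a b
  rw [conv_mul_apply, conv_mul_apply, conv_mul_apply, conv_mul_apply', conv_mul_apply', Bialgebra.comul_mul]
  generalize Coalgebra.comul (R := k) a = x
  generalize Coalgebra.comul (R := k) b = y
  induction x using TensorProduct.induction_on with
  | zero => simp
  | add s t hs ht => simp only [add_mul, map_add, hs, ht]; ring
  | tmul s t =>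
    induction y using TensorProduct.induction_on with
    | zero => simp
    | add q r hq hr => simp only [mul_add, map_add, hq, hr]; ring
    | tmul q r =>
      simp only [Algebra.TensorProduct.tmul_mul_tmul, TensorProduct.map_tmul, LinearMap.mul'_apply,
        Algebra.TensorProduct.lift_tmul, hv s q, lin_apply, map_mul]
      ring

variable (k A) in
/-- the Lie algebra, inside the convolution algebra -/
def lie : Submodule k (WithConv (A →ₗ[k] k)) where
  carrier := {v | IsDer (1 : WithConv (A →ₐ[k] k)).ofConv v.ofConv}
  add_mem' := fun {v w} hv hw a b => by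
    simp only [ofConv_add, LinearMap.add_apply, hv a b, hw a b]; ring
  zero_mem' := fun a b => by simp
  smul_mem' := fun c {v} hv a b => by
    simp only [ofConv_smul, LinearMap.smul_apply, hv a b, smul_eq_mul]; ring

theorem conj_mem_lie (g : WithConv (A →ₐ[k] k)) {v : WithConv (A →ₗ[k] k)} (hv : v ∈ lie k A) :
    lin g * v * lin g⁻¹ ∈ lie k A := by
  have h := IsDer.conv_right (g := g⁻¹) (IsDer.conv_left (g := g) (p := 1) hv)
  rwa [mul_one, mul_inv_cancel] at h

variable {U : Submodule k A} (hU : HopfRep.IsSubcomod (k := k) (A := A) U)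

/-- the convolution algebra acting on a subcomodule -/
def rhoU : WithConv (A →ₗ[k] k) →ₐ[k] Module.End k U :=
  letI := ComodSub.Comod.restr (HopfRep.Comod.regular k A) U hU
  rho k A U

theorem rhoU_lin (g : WithConv (A →ₐ[k] k)) : rhoU hU (lin g) = Jordan.T g hU := by
  refine LinearMap.ext fun x => Subtype.ext ?_
  letI := ComodSub.Comod.restr (HopfRep.Comod.regular k A) U hU
  exact isComodHom_op (A := A) (f := U.subtype) (ComodSub.isComodHom_subtype _ U hU) g.ofConv.toLinearMap x

theorem counit_rhoU (φ : WithConv (A →ₗ[k] k)) (x : U) :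
    Coalgebra.counit (R := k) (A := A) ((rhoU hU φ x : U) : A) = φ.ofConv (x : A) := by
  letI := ComodSub.Comod.restr (HopfRep.Comod.regular k A) U hU
  have h : ((rhoU hU φ x : U) : A) = op φ.ofConv (x : A) :=
    isComodHom_op (A := A) (f := U.subtype) (ComodSub.isComodHom_subtype _ U hU) φ.ofConv x
  rw [h, ← apply_cf (A := A) φ.ofConv (Coalgebra.counit (R := k) (A := A)) (x : A)]
  refine congrArg φ.ofConv ?_
  rw [cf_apply]
  change TensorProduct.lid k A ((Coalgebra.counit (R := k) (A := A)).rTensor A (Coalgebra.comul (R := k) (x : A))) = _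
  rw [Coalgebra.rTensor_counit_comul, TensorProduct.lid_tmul, one_smul]

variable (hgen : Algebra.adjoin k (U : Set A) = ⊤)

include hgen in
theorem rhoU_injective_on_lie {v : WithConv (A →ₗ[k] k)} (hv : v ∈ lie k A) (h : rhoU hU v = 0) : v = 0 := by
  have h0 : ∀ x : U, v.ofConv (x : A) = 0 := fun x => by
    rw [← counit_rhoU hU, h]; simp
  refine WithConv.ofConv_injective (LinearMap.ext fun a => ?_)
  have ha : a ∈ Algebra.adjoin k (U : Set A) := hgen ▸ Algebra.mem_top
  change v.ofConv a = 0
  induction ha using Algebra.adjoin_induction with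
  | mem x hx => exact h0 ⟨x, hx⟩
  | algebraMap c => exact IsDer.map_algebraMap hv c
  | add x y _ _ hx hy => rw [map_add, hx, hy, add_zero]
  | mul x y _ _ hx hy => rw [hv x y, hx, hy, mul_zero, mul_zero, add_zero]

include hgen in
theorem point_eq_one {g : WithConv (A →ₐ[k] k)} (h : Jordan.T g hU = 1) : g = 1 := by
  refine WithConv.ofConv_injective (AlgHom.ext_of_adjoin_eq_top hgen fun x hx => ?_)
  have h1 := counit_rhoU hU (lin g) ⟨x, hx⟩
  rw [rhoU_lin, h] at h1
  rw [← lin_apply, ← h1, Module.End.one_apply, one_ofConv_apply]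

end Groth.Misc1.Unip.Conj

namespace Groth.Misc1.Unip.Conj

variable {k : Type u} [Field k] {V : Type*} [AddCommGroup V] [Module k V]

/-- kernel and image of a semisimple endomorphism span -/
theorem ker_sup_range [FiniteDimensional k V] {f : Module.End k V} (hf : f.IsSemisimple) :
    LinearMap.ker f ⊔ LinearMap.range f = ⊤ := by
  obtain ⟨W, hW, hc⟩ := Module.End.isSemisimple_iff.1 hf (LinearMap.ker f) (fun x hx => by
    rw [Submodule.mem_comap, LinearMap.mem_ker, LinearMap.mem_ker.1 hx, map_zero])
  refine top_le_iff.1 (hc.sup_eq_top.ge.trans (sup_le_sup_left (fun w hw => ?_) _))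
  have hinj : Function.Injective (f.restrict (p := W) (q := W) hW) := by
    rw [injective_iff_map_eq_zero]
    intro x hx
    exact Subtype.ext (Submodule.disjoint_def.1 hc.disjoint _ (congrArg Subtype.val hx) x.2)
  obtain ⟨y, hy⟩ := LinearMap.surjective_of_injective hinj ⟨w, hw⟩
  exact ⟨y, congrArg Subtype.val hy⟩

/-- the inverse of a semisimple endomorphism is semisimple -/
theorem isSemisimple_inverse [FiniteDimensional k V] {f g : Module.End k V} (hfg : f * g = 1)
    (hf : f.IsSemisimple) : g.IsSemisimple := by
  have hflip : ∀ p ∈ g.invtSubmodule, p ∈ f.invtSubmodule := fun p hp x hx => by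
    have hinj : Function.Injective (g.restrict (p := p) (q := p) hp) := fun a b e =>
      Subtype.ext (by
        have := congrArg (fun y : p => f (y : V)) e
        change f (g (a : V)) = f (g (b : V)) at this
        rwa [← Module.End.mul_apply, ← Module.End.mul_apply, hfg] at this)
    obtain ⟨y, hy⟩ := LinearMap.surjective_of_injective hinj ⟨x, hx⟩
    have e : g (y : V) = x := congrArg Subtype.val hy
    rw [Submodule.mem_comap, ← e, ← Module.End.mul_apply, hfg]
    exact y.2
  have hgf : g * f = 1 := mul_eq_one_comm.1 hfg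
  have hflip' : ∀ p ∈ f.invtSubmodule, p ∈ g.invtSubmodule := fun p hp x hx => by
    have hinj : Function.Injective (f.restrict (p := p) (q := p) hp) := fun a b e =>
      Subtype.ext (by
        have := congrArg (fun y : p => g (y : V)) e
        change g (f (a : V)) = g (f (b : V)) at this
        rwa [← Module.End.mul_apply, ← Module.End.mul_apply, hgf] at this)
    obtain ⟨y, hy⟩ := LinearMap.surjective_of_injective hinj ⟨x, hx⟩
    have e : f (y : V) = x := congrArg Subtype.val hy
    rw [Submodule.mem_comap, ← e, ← Module.End.mul_apply, hgf]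
    exact y.2
  rw [Module.End.isSemisimple_iff] at hf ⊢
  intro p hp
  obtain ⟨q, hq, hc⟩ := hf p (hflip p hp)
  exact ⟨q, hflip' q hq, hc⟩

/-- fixed vectors and moved vectors of a semisimple endomorphism inside an invariant subspace -/
theorem exists_decomp_of_invt [FiniteDimensional k V] {C : Module.End k V} (hC : C.IsSemisimple)
    (M : Submodule k V) (hM : M ∈ C.invtSubmodule) {x : V} (hx : x ∈ M) :
    ∃ a ∈ M, ∃ b ∈ M, x = C a - a + b ∧ C b = b := by
  let f : Module.End k M := C.restrict (p := M) (q := M) hM - algebraMap k (Module.End k M) 1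
  have hf : f.IsSemisimple := Module.End.isSemisimple_sub_algebraMap_iff.2 (hC.restrict hM)
  obtain ⟨⟨b, hb⟩, hbker, _, ⟨⟨a, ha⟩, rfl⟩, hsum⟩ :=
    Submodule.mem_sup.1 ((ker_sup_range hf).ge (Submodule.mem_top (x := (⟨x, hx⟩ : M))))
  have e1 := congrArg Subtype.val (LinearMap.mem_ker.1 hbker)
  have e2 := congrArg Subtype.val hsum
  simp only [f, map_one, LinearMap.sub_apply, Module.End.one_apply, AddSubgroupClass.coe_sub, Submodule.coe_add,
    Submodule.coe_zero, LinearMap.restrict_apply, sub_eq_zero] at e1 e2
  exact ⟨a, ha, b, hb, by rw [add_comm]; exact e2.symm, e1⟩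

/-- conjugation by a semisimple operator is semisimple -/
theorem isSemisimple_conj_mul [PerfectField k] [FiniteDimensional k V] {f g : Module.End k V} (hfg : f * g = 1)
    (hf : f.IsSemisimple) :
    Module.End.IsSemisimple (R := k) (M := Module.End k V) (LinearMap.mulLeft k f * LinearMap.mulRight k g) := by
  refine Module.End.IsSemisimple.mul_of_commute (LinearMap.commute_mulLeft_right f g) ?_ ?_
  · refine Module.End.isSemisimple_of_squarefree_aeval_eq_zero hf.minpoly_squarefree ?_
    change Polynomial.aeval (Algebra.lmul k (Module.End k V) f) (minpoly k f) = 0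
    rw [Polynomial.aeval_algHom_apply, minpoly.aeval, map_zero]
  · have hg := isSemisimple_inverse hfg hf
    refine Module.End.isSemisimple_of_squarefree_aeval_eq_zero hg.minpoly_squarefree ?_
    have e : ∀ P : Polynomial k, Polynomial.aeval (LinearMap.mulRight k g) P =
        LinearMap.mulRight k (Polynomial.aeval g P) := by
      intro P
      refine LinearMap.ext fun x => ?_
      induction P using Polynomial.induction_on' with
      | add p q hp hq => rw [map_add, map_add, LinearMap.add_apply, hp, hq]; simp [mul_add]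
      | monomial n c =>
        simp [Polynomial.aeval_monomial, LinearMap.pow_mulRight, Module.algebraMap_end_apply,
          Algebra.algebraMap_eq_smul_one]
    rw [e, minpoly.aeval]
    exact LinearMap.ext fun x => mul_zero x

end Groth.Misc1.Unip.Conj

namespace Groth.Misc1.Unip.Conj

attribute [local instance 100] convGrpC
attribute [local instance] HopfRep.Comod.regular

variable {k : Type u} [Field k] [PerfectField k] {A : Type u} [CommRing A] [HopfAlgebra k A]
  {U : Submodule k A} (hU : HopfRep.IsSubcomod (k := k) (A := A) U) [Module.Finite k U]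

/-- decomposition of the Lie algebra under a semisimple point -/
theorem exists_decomp (hgen : Algebra.adjoin k (U : Set A) = ⊤) (g : WithConv (A →ₐ[k] k))
    (hg : (Jordan.T g hU).IsSemisimple) {v : WithConv (A →ₗ[k] k)} (hv : v ∈ lie k A) :
    ∃ a ∈ lie k A, ∃ b ∈ lie k A, v = lin g * a * lin g⁻¹ - a + b ∧ lin g * b * lin g⁻¹ = b := by
  let M : Submodule k (Module.End k U) := (lie k A).map (rhoU hU).toLinearMap
  let C : Module.End k (Module.End k U) :=
    LinearMap.mulLeft k (rhoU hU (lin g)) * LinearMap.mulRight k (rhoU hU (lin g⁻¹))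
  have hC : Module.End.IsSemisimple (R := k) (M := Module.End k U) C := isSemisimple_conj_mul (f := rhoU hU (lin g)) (g := rhoU hU (lin g⁻¹))
    (by rw [← map_mul, ← map_mul, mul_inv_cancel, map_one, map_one]) (by rwa [rhoU_lin])
  have hCval : ∀ w, C (rhoU hU w) = rhoU hU (lin g * w * lin g⁻¹) := fun w => by
    rw [map_mul, map_mul]
    exact (mul_assoc _ _ _).symm
  have hM : M ∈ C.invtSubmodule := by
    rintro _ ⟨w, hw, rfl⟩
    exact ⟨_, conj_mem_lie g hw, (hCval w).symm⟩
  obtain ⟨_, ⟨a, ha, rfl⟩, _, ⟨b, hb, rfl⟩, hsum, hbfix⟩ :=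
    exists_decomp_of_invt (V := Module.End k U) hC M hM (x := rhoU hU v) ⟨v, hv, rfl⟩
  have hb' : lin g * b * lin g⁻¹ - b = 0 := by
    refine rhoU_injective_on_lie hU hgen (Submodule.sub_mem _ (conj_mem_lie g hb) hb) ?_
    rw [map_sub, ← hCval, sub_eq_zero]
    exact hbfix
  refine ⟨a, ha, b, hb, ?_, sub_eq_zero.1 hb'⟩
  rw [← sub_eq_zero]
  refine rhoU_injective_on_lie hU hgen (Submodule.sub_mem _ hv
    (Submodule.add_mem _ (Submodule.sub_mem _ (conj_mem_lie g ha) ha) hb)) ?_
  rw [map_sub, map_add, map_sub, ← hCval, sub_eq_zero]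
  exact hsum

end Groth.Misc1.Unip.Conj
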